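import Groth.Agent.TrivAct.FibreAlg
/-!
A coaction of a group algebra without stabilisers is strongly graded.
-/

set_option autoImplicit false

universe u

noncomputable section

namespace Groth.Agent.FreeAct

open MonoidAlgebra Groth.Agent.FixedSmooth

variable {A : Type u} [CommRing A] {G : Type} [CommGroup G] (ρ : A →+* MonoidAlgebra A G)

/-- An ideal stable under the components. -/
def IsHom (J : Ideal A) : Prop := ∀ a ∈ J, ∀ n, (ρ a).coeff n ∈ J

theorem isHom_span (s : Set A) (hs : ∀ a ∈ s, ∃ k, ρ a = single k a) : IsHom ρ (Ideal.span s) := fun a ha => by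
  classical
  induction ha using Submodule.span_induction with
  | mem x hx =>
    obtain ⟨k, hk⟩ := hs x hx
    intro n
    rw [hk, coeff_single, Finsupp.single_apply]
    split
    · exact Ideal.subset_span hx
    · exact zero_mem _
  | zero => simp
  | add x y _ _ hx hy => intro n; rw [map_add, coeff_add, Finsupp.add_apply]; exact add_mem (hx n) (hy n)
  | smul c x _ hx =>
    intro n
    rw [smul_eq_mul, map_mul, coeff_mul]
    refine Ideal.sum_mem _ fun i _ => Ideal.sum_mem _ fun j _ => ?_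
    dsimp only
    split
    · exact Ideal.mul_mem_left _ _ (hx j)
    · exact zero_mem _

variable {ρ}

theorem top_of_free (hhom : ∀ a n, ρ ((ρ a).coeff n) = single n ((ρ a).coeff n))
    (hcounit : ∀ a, FixedSmooth.L (RingHom.id A) (1 : G →* A) (ρ a) = a)
    (hfree : ∀ {D : Type u} [CommRing D] (x : A →+* D) (χ : G →* D), (FixedSmooth.L x χ).comp ρ = x → χ = 1)
    (m : G) : Ideal.span {a : A | ρ a = single m a} = ⊤ := by
  classical
  by_contra hne
  obtain ⟨J, hle, hmax⟩ := zorn_le_nonempty₀ {J : Ideal A | J ≠ ⊤ ∧ IsHom ρ J} (fun c hc hch y hy => by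
    refine ⟨sSup c, ⟨fun h => ?_, fun a ha n => ?_⟩, fun z hz => le_sSup hz⟩
    · obtain ⟨z, hz, h1⟩ := (Submodule.mem_sSup_of_directed ⟨y, hy⟩ hch.directedOn).1
        (h ▸ Submodule.mem_top : (1 : A) ∈ sSup c)
      exact (hc hz).1 ((Ideal.eq_top_iff_one _).2 h1)
    · obtain ⟨z, hz, h1⟩ := (Submodule.mem_sSup_of_directed ⟨y, hy⟩ hch.directedOn).1 ha
      exact (le_sSup hz : z ≤ sSup c) ((hc hz).2 a h1 n))
    (Ideal.span {a : A | ρ a = single m a}) ⟨hne, isHom_span ρ _ fun a ha => ⟨m, ha⟩⟩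
  have hJ : J ≠ ⊤ ∧ IsHom ρ J := hmax.prop
  -- homogeneous elements outside `J` are units modulo `J`
  have hunit : ∀ a k, ρ a = single k a → a ∉ J → ∃ b, ρ b = single k⁻¹ b ∧ b * a - 1 ∈ J := fun a k hk ha => by
    have htop : J ⊔ Ideal.span {a} = ⊤ := by
      by_contra h
      have hh : IsHom ρ (J ⊔ Ideal.span {a}) := fun x hx n => by
        obtain ⟨j, hj, z, hz, rfl⟩ := Submodule.mem_sup.1 hx
        rw [map_add, coeff_add, Finsupp.add_apply]
        exact Submodule.add_mem_sup (hJ.2 j hj n) (isHom_span ρ {a} (fun y hy => ⟨k, by rw [Set.mem_singleton_iff.1 hy]; exact hk⟩) z hz n)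
      exact ha (hmax.le_of_ge ⟨h, hh⟩ le_sup_left (Submodule.mem_sup_right (Ideal.mem_span_singleton_self a)))
    obtain ⟨j, hj, z, hz, hjz⟩ := Submodule.mem_sup.1 (htop ▸ Submodule.mem_top : (1 : A) ∈ J ⊔ Ideal.span {a})
    obtain ⟨c, rfl⟩ := Ideal.mem_span_singleton'.1 hz
    refine ⟨(ρ c).coeff k⁻¹, hhom c _, ?_⟩
    have h1 := congrArg (fun y => (ρ y).coeff 1) hjz
    simp only [map_add, map_mul, hk, map_one, coeff_add, Finsupp.add_apply] at h1
    have h2 : (ρ c * single k a).coeff (k⁻¹ * k) = (ρ c).coeff k⁻¹ * a :=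
      coeff_mul_single_eq_coeff_mul _ fun m' _ => mul_left_inj k
    rw [inv_mul_cancel] at h2
    rw [h2, one_def, coeff_single, Finsupp.single_eq_same] at h1
    have : (ρ c).coeff k⁻¹ * a - 1 = -(ρ j).coeff 1 := by rw [← h1]; ring
    rw [this]
    exact neg_mem (hJ.2 j hj 1)
  have hne1 : (1 : A) ∉ J := fun h => hJ.1 ((Ideal.eq_top_iff_one _).2 h)
  let S : Subgroup G :=
    { carrier := {k | ∃ a, ρ a = single k a ∧ a ∉ J}
      one_mem' := ⟨1, by rw [map_one, one_def], hne1⟩
      mul_mem' := fun {k l} ⟨a, ha, ha'⟩ ⟨b, hb, hb'⟩ => ⟨a * b, by rw [map_mul, ha, hb, single_mul_single],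
        fun h => by
          obtain ⟨a', -, ha''⟩ := hunit a k ha ha'
          apply hb'
          have : b = a' * (a * b) - (a' * a - 1) * b := by ring
          rw [this]
          exact sub_mem (J.mul_mem_left _ h) (J.mul_mem_right _ ha'')⟩
      inv_mem' := fun {k} ⟨a, ha, ha'⟩ => by
        obtain ⟨b, hb, hb'⟩ := hunit a k ha ha'
        exact ⟨b, hb, fun h => hne1 (by simpa using sub_mem (J.mul_mem_right a h) hb')⟩ }
  haveI : Nontrivial (A ⧸ J) := Ideal.Quotient.nontrivial_iff.2 hJ.1
  let x : A →+* MonoidAlgebra (A ⧸ J) (G ⧸ S) := singleOneRingHom.comp (Ideal.Quotient.mk J)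
  let χ : G →* MonoidAlgebra (A ⧸ J) (G ⧸ S) := (of _ _).comp (QuotientGroup.mk' S)
  have hfix : (FixedSmooth.L x χ).comp ρ = x := RingHom.ext fun a => by
    have hterm : ∀ n, FixedSmooth.L x χ (single n ((ρ a).coeff n)) = x ((ρ a).coeff n) := fun n => by
      rw [FixedSmooth.L_single]
      by_cases hn : (ρ a).coeff n ∈ J
      · simp [x, Ideal.Quotient.eq_zero_iff_mem.2 hn]
      · have hnS : (n : G ⧸ S) = 1 := (QuotientGroup.eq_one_iff n).2 ⟨_, hhom a n, hn⟩
        simp [χ, hnS, ← one_def]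
    conv_rhs => rw [← hcounit a, TrivAct.L_one_eq_sum, map_finsuppSum]
    rw [RingHom.comp_apply]
    conv_lhs => rw [← sum_coeff_single (ρ a)]
    rw [map_finsuppSum]
    exact Finsupp.sum_congr fun n _ => hterm n
  have hχ := DFunLike.congr_fun (hfree x χ hfix) m
  have hm : (m : G ⧸ S) = 1 := by
    by_contra hne'
    have h1 := congrArg (fun w => w.coeff 1) hχ
    simp [χ, one_def, hne'] at h1
  obtain ⟨a, ha, ha'⟩ := (QuotientGroup.eq_one_iff m).1 hm
  exact ha' (hle (Ideal.subset_span ha))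

theorem closure_eq_top (hhom : ∀ a n, ρ ((ρ a).coeff n) = single n ((ρ a).coeff n))
    (hcounit : ∀ a, FixedSmooth.L (RingHom.id A) (1 : G →* A) (ρ a) = a)
    (hfree : ∀ {D : Type u} [CommRing D] (x : A →+* D) (χ : G →* D), (FixedSmooth.L x χ).comp ρ = x → χ = 1) :
    Subring.closure (Set.range ρ ∪ Set.range (singleOneRingHom : A →+* MonoidAlgebra A G)) = ⊤ := by
  refine eq_top_iff.2 fun w _ => ?_
  let R := Subring.closure (Set.range ρ ∪ Set.range (singleOneRingHom : A →+* MonoidAlgebra A G))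
  have hc : ∀ c : A, single 1 c ∈ R := fun c => Subring.subset_closure (Or.inr ⟨c, rfl⟩)
  have key : ∀ m y, single m y ∈ R := fun m y => by
    have hy : y ∈ Ideal.span {a : A | ρ a = single m a} := by rw [top_of_free hhom hcounit hfree]; trivial
    induction hy using Submodule.span_induction with
    | mem a ha => exact Subring.subset_closure (Or.inl ⟨a, ha⟩)
    | zero => rw [single_zero]; exact zero_mem _
    | add a b _ _ ha hb => rw [single_add]; exact add_mem ha hb
    | smul c a _ ha =>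
      rw [smul_eq_mul, show (single m (c * a) : MonoidAlgebra A G) = single 1 c * single m a by
        rw [single_mul_single, one_mul]]
      exact mul_mem (hc c) ha
  induction w using MonoidAlgebra.induction_linear with
  | zero => exact zero_mem _
  | add a b ha hb => exact add_mem (ha trivial) (hb trivial)
  | single m y => exact key m y

end Groth.Agent.FreeAct
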