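import Groth.Agent.FreeAct.Alg
import Groth.Agent.SplitHom.Chart
import Groth.Agent.FixedSmooth.Cover
import Groth.Agent.FixedSmooth.SmoothFixed
import Groth.Agent.FpqcDesc.Basic
import Groth.Prelude.Def_AlgGrp
import Groth.Prelude.Def_SGA3x
import Groth.Prelude.Def_TwC
import Groth.Prelude.Def_ActBC
/-!
The graph of a free action of a diagonalisable group on an affine scheme is a closed immersion.
-/

set_option autoImplicit false
set_option backward.isDefEq.respectTransparency false
set_option backward.isDefEq.respectTransparency.types false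
set_option linter.style.haveILetI false

universe u

open CategoryTheory CategoryTheory.Limits MonoidalCategory CartesianMonoidalCategory MonObj AlgebraicGeometry

noncomputable section

namespace Groth.Agent.FreeAct

open FixedSmooth HomTriv

variable {S : Scheme.{u}} {G X : Over S} [GrpObj G] {B : CommRingCat.{u}} {t : Spec B ⟶ S}
  {M : Type} [AddCommGroup M]

/-- The graph of a free action is a closed immersion over a chart on which the group is split. -/
theorem isClosedImmersion_graph_chart [IsAffineHom G.hom] [IsAffineHom X.hom] (σ : Split G t M) (a : AlgGrp.Action G X)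
    (hfree : ∀ (Y : Over S) (g : Y ⟶ G) (x : Y ⟶ X), lift g x ≫ a.act = x → g = 1) :
    IsClosedImmersion ((Over.pullback t).map (lift a.act (snd G X))).left := by
  classical
  obtain ⟨A, ⟨eX⟩⟩ : ∃ A : CommRingCat.{u}, Nonempty (pullback X.hom t ≅ Spec A) := by
    haveI : IsAffine (pullback X.hom t) := isAffine_of_isAffineHom (pullback.snd X.hom t)
    exact ⟨_, ⟨(pullback X.hom t).isoSpec⟩⟩
  obtain ⟨gA, hgA⟩ := Spec.map_surjective (eX.inv ≫ pullback.snd X.hom t)
  let x₀ : Over.mk (Spec.map gA ≫ t) ⟶ X := Over.homMk (eX.inv ≫ pullback.fst X.hom t) (by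
    show (_ ≫ pullback.fst X.hom t) ≫ X.hom = Spec.map gA ≫ t
    rw [hgA, Category.assoc, Category.assoc, pullback.condition])
  have hx₀ : ∀ {W : Scheme.{u}} {v v' : W ⟶ Spec A}, v ≫ x₀.left = v' ≫ x₀.left → v ≫ Spec.map gA = v' ≫ Spec.map gA →
      v = v' := fun {W v v'} h1 h2 => by
    rw [← cancel_mono eX.inv]
    apply pullback.hom_ext
    · simpa [x₀] using h1
    · simpa [hgA] using h2
  have hlift : ∀ {W : Scheme.{u}} (z : W ⟶ X.left) (p : W ⟶ Spec B), z ≫ X.hom = p ≫ t →
      ∃ v : W ⟶ Spec A, v ≫ x₀.left = z ∧ v ≫ Spec.map gA = p := fun {W} z p h =>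
    ⟨pullback.lift z p h ≫ eX.hom, by simp [x₀, pullback.lift_fst], by simp [hgA, pullback.lift_snd]⟩
  let E : CommRingCat.{u} := GA A M
  let kE : Over.mk (Spec.map (gA ≫ gc A M) ≫ t) ⟶ Over.mk (Spec.map gA ≫ t) := Over.homMk (Spec.map (gc A M)) (by
    show Spec.map (gc A M) ≫ Spec.map gA ≫ t = Spec.map (gA ≫ gc A M) ≫ t
    rw [← Category.assoc, ← Spec.map_comp])
  let g₀ : Over.mk (Spec.map (gA ≫ gc A M) ≫ t) ⟶ G :=
    σ.pt E (Spec.map (gA ≫ gc A M)) (MonoidAlgebra.of A (Multiplicative M))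
  obtain ⟨v, hv1, hv2⟩ := hlift (lift g₀ (kE ≫ x₀) ≫ a.act).left (Spec.map (gA ≫ gc A M))
    (Over.w (lift g₀ (kE ≫ x₀) ≫ a.act))
  obtain ⟨ρ, rfl⟩ := Spec.map_surjective v
  have hgρ : gA ≫ ρ = gA ≫ gc A M := Spec.map_injective (by rw [Spec.map_comp, hv2])
  let pt₀ : ∀ {D : CommRingCat.{u}} (h : A ⟶ D), Over.mk (Spec.map (gA ≫ h) ≫ t) ⟶ X := fun {D} h =>
    Over.homMk (Spec.map h ≫ x₀.left) (by
      show (Spec.map h ≫ x₀.left) ≫ X.hom = Spec.map (gA ≫ h) ≫ t
      rw [Category.assoc, Over.w x₀, Spec.map_comp, Category.assoc]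
      rfl)
  have hgev : ∀ {D : CommRingCat.{u}} (h : A ⟶ D) (χ : Multiplicative M →* D), gA ≫ ρ ≫ gev h χ = gA ≫ h :=
    fun {D} h χ => by
      rw [reassoc_of% hgρ, show gc A M ≫ gev h χ = h from CommRingCat.hom_ext (L_comp_single h.hom χ)]
  have hev : ∀ {D : CommRingCat.{u}} (h : A ⟶ D) (χ : Multiplicative M →* D),
      (lift (σ.pt D (Spec.map (gA ≫ h)) χ) (pt₀ h) ≫ a.act).left = Spec.map (ρ ≫ gev h χ) ≫ x₀.left := fun {D} h χ => by
    have hh : gc A M ≫ gev h χ = h := CommRingCat.hom_ext (L_comp_single h.hom χ)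
    let w : Over.mk (Spec.map (gA ≫ h) ≫ t) ⟶ Over.mk (Spec.map (gA ≫ gc A M) ≫ t) := Over.homMk (Spec.map (gev h χ)) (by
      show Spec.map _ ≫ Spec.map _ ≫ t = _
      rw [← Category.assoc, ← Spec.map_comp, Category.assoc, hh]
      rfl)
    have h1 : w ≫ g₀ = σ.pt D (Spec.map (gA ≫ h)) χ := Over.OverMorphism.ext (by
      refine (SplitHom.pt_comp_left σ (gA ≫ gc A M) (gev h χ) (MonoidAlgebra.of A (Multiplicative M))).symm.trans ?_
      exact pt_congr σ (by rw [Category.assoc, hh]) (L_comp_of _ _))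
    have h2 : w ≫ kE ≫ x₀ = pt₀ h := Over.OverMorphism.ext (by
      show Spec.map (gev h χ) ≫ Spec.map (gc A M) ≫ x₀.left = Spec.map h ≫ x₀.left
      rw [← Category.assoc, ← Spec.map_comp, hh])
    rw [← h1, ← h2, ← comp_lift, Category.assoc, Over.comp_left, ← hv1]
    exact (Category.assoc _ _ _).symm.trans (congrArg (· ≫ x₀.left) (Spec.map_comp ρ (gev h χ)).symm)
  have huniq : ∀ {D : CommRingCat.{u}} (h h' : A ⟶ D), gA ≫ h = gA ≫ h' → Spec.map h ≫ x₀.left = Spec.map h' ≫ x₀.left →
      h = h' := fun {D} h h' e1 e2 => Spec.map_injective (hx₀ e2 (by rw [← Spec.map_comp, ← Spec.map_comp, e1]))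
  have hcounit : ρ ≫ gev (𝟙 A) 1 = 𝟙 A := by
    refine huniq _ _ (hgev _ _) ?_
    rw [← hev, map_one]
    have h1 := congrArg (fun m => lift (toUnit _) (pt₀ (𝟙 A)) ≫ m) a.one_act
    simp only [lift_leftUnitor_hom, ← Category.assoc, lift_whiskerRight] at h1
    refine Eq.trans ?_ (show (pt₀ (𝟙 A)).left = Spec.map (𝟙 A) ≫ x₀.left from rfl)
    rw [Hom.one_def, h1]
  have hassoc : ∀ {D : CommRingCat.{u}} (h : A ⟶ D) (χ χ' : Multiplicative M →* D),
      ρ ≫ gev (ρ ≫ gev h χ') χ = ρ ≫ gev h (χ * χ') := fun {D} h χ χ' => by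
    refine huniq _ _ (by rw [hgev, hgev, hgev]) ?_
    rw [← hev, ← hev, map_mul, ← action_assoc a]
    have h1 : ∀ {h₁ : A ⟶ D} (_ : gA ≫ h₁ = gA ≫ h) (z : Over.mk (Spec.map (gA ≫ h) ≫ t) ⟶ X),
        Spec.map h₁ ≫ x₀.left = z.left → @Eq (Spec D ⟶ X.left)
          (lift (σ.pt D (Spec.map (gA ≫ h₁)) χ) (pt₀ h₁) ≫ a.act).left
          (lift (σ.pt D (Spec.map (gA ≫ h)) χ) z ≫ a.act).left := fun {h₁} e z hz => by
      let w : Over.mk (Spec.map (gA ≫ h) ≫ t) ⟶ Over.mk (Spec.map (gA ≫ h₁) ≫ t) := Over.homMk (𝟙 _) (by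
        show 𝟙 _ ≫ _ = _
        rw [Category.id_comp, e])
      have h2 : w ≫ σ.pt D (Spec.map (gA ≫ h₁)) χ = σ.pt D (Spec.map (gA ≫ h)) χ :=
        Over.OverMorphism.ext ((Category.id_comp _).trans (pt_congr σ (by rw [e]) rfl))
      have h3 : w ≫ pt₀ h₁ = z := Over.OverMorphism.ext ((Category.id_comp _).trans hz)
      rw [← h2, ← h3, ← comp_lift, Category.assoc]
      exact (Category.id_comp _).symm
    exact h1 (hgev h χ') _ (hev h χ').symm
  have hhom : ∀ c n, ρ.hom ((ρ.hom c).coeff n) = MonoidAlgebra.single n ((ρ.hom c).coeff n) := fun c n => by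
    let E₂ : CommRingCat.{u} := GA E M
    let s2 : E ⟶ E₂ := gc E M
    have h := hassoc (gc A M ≫ s2) (MonoidAlgebra.of E (Multiplicative M))
      (s2.hom.toMonoidHom.comp (MonoidAlgebra.of A (Multiplicative M)))
    have e : gev (gc A M ≫ s2) (s2.hom.toMonoidHom.comp (MonoidAlgebra.of A (Multiplicative M))) = s2 :=
      CommRingCat.hom_ext (MonoidAlgebra.ringHom_ext (fun c => by simp [s2]) (fun m => by simp [s2, ← MonoidAlgebra.one_def]; rfl))
    rw [e] at h
    have h' : MonoidAlgebra.mapRingHom _ ρ.hom (ρ.hom c) =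
        L ((MonoidAlgebra.singleOneRingHom : E →+* MonoidAlgebra E (Multiplicative M)).comp
          MonoidAlgebra.singleOneRingHom) (MonoidAlgebra.of E (Multiplicative M) *
            s2.hom.toMonoidHom.comp (MonoidAlgebra.of A (Multiplicative M))) (ρ.hom c) := by
      rw [← L_single_of]
      exact congrArg (fun f => f.hom c) h
    have h'' := congrArg (fun w => MonoidAlgebra.coeff w n) h'
    simp only [MonoidAlgebra.coeff_mapRingHom, Finsupp.mapRange_apply] at h''
    ext k
    rw [MonoidAlgebra.coeff_single, Finsupp.single_apply]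
    exact (congrArg (fun w => MonoidAlgebra.coeff w k) h'').trans (TrivAct.coeff_double' _ n k)
  have hfree' : ∀ {D : Type u} [CommRing D] (x : A →+* D) (χ : Multiplicative M →* D),
      (L x χ).comp ρ.hom = x → χ = 1 := fun {D} _ x χ hx => by
    let D' : CommRingCat.{u} := CommRingCat.of D
    have h1 := hfree _ (σ.pt D' (Spec.map (gA ≫ CommRingCat.ofHom x)) χ) (pt₀ (CommRingCat.ofHom x)) (by
      apply Over.OverMorphism.ext
      rw [hev]
      show Spec.map _ ≫ _ = Spec.map (CommRingCat.ofHom x) ≫ x₀.left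
      congr 2
      exact CommRingCat.hom_ext hx)
    exact (σ.pt D' _).injective (h1.trans (map_one _).symm)
  have htop := closure_eq_top hhom (fun c => congrArg (fun f => f.hom c) hcounit) hfree'
  -- the source over the chart
  let pair : Over.mk (Spec.map (gA ≫ gc A M) ≫ t) ⟶ G ⊗ X := lift g₀ (kE ≫ x₀)
  have hu : (univ (res σ gA)).left = g₀.left := by
    refine Eq.trans ?_ (pt_congr σ (Spec.map_comp gA (gc A M)).symm rfl)
    exact Category.id_comp _
  have sq0 : IsPullback x₀.left (Spec.map gA) X.hom t :=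
    (IsPullback.of_hasPullback X.hom t).of_iso eX (Iso.refl _) (Iso.refl _) (Iso.refl _)
      (by simp [x₀]) (by simp [hgA]) (by simp) (by simp)
  have sqT : IsPullback (fst G X).left (snd G X).left G.hom X.hom := IsPullback.of_hasPullback G.hom X.hom
  have sq1 : IsPullback pair.left (Spec.map (gc A M)) (snd G X).left x₀.left := by
    refine IsPullback.of_right ?_ ?_ sqT
    · have h1 : pair.left ≫ (fst G X).left = g₀.left := congrArg CommaMorphism.left (lift_fst g₀ (kE ≫ x₀))
      rw [h1, ← hu, Over.w x₀]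
      exact SplitHom.isPullback_univ (res σ gA)
    · exact congrArg CommaMorphism.left (lift_snd g₀ (kE ≫ x₀))
  have sq2 := sq1.paste_vert sq0
  rw [Over.w (snd G X)] at sq2
  let e₁ : Spec E ≅ pullback (G ⊗ X).hom t := sq2.isoPullback
  let f := ((Over.pullback t).map (lift a.act (snd G X))).left
  haveI : IsAffineHom (X ⊗ X).hom := by
    rw [← Over.w (snd X X)]
    haveI : IsAffineHom (snd X X).left := MorphismProperty.pullback_snd (P := @IsAffineHom) X.hom X.hom ‹_›
    infer_instance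
  haveI : IsAffine (pullback (X ⊗ X).hom t) := isAffine_of_isAffineHom (pullback.snd (X ⊗ X).hom t)
  obtain ⟨D, ⟨eW⟩⟩ : ∃ D : CommRingCat.{u}, Nonempty (pullback (X ⊗ X).hom t ≅ Spec D) :=
    ⟨_, ⟨(pullback (X ⊗ X).hom t).isoSpec⟩⟩
  obtain ⟨n, hn⟩ := Spec.map_surjective (e₁.hom ≫ f ≫ eW.hom)
  have hf : ∀ (q : X ⊗ X ⟶ X) (h : A ⟶ E),
      Spec.map h ≫ x₀.left = (pair ≫ lift a.act (snd G X) ≫ q).left →
      gA ≫ h = gA ≫ gc A M → ∀ c, h.hom c ∈ n.hom.range := fun q h hq hg c => by
    obtain ⟨w, hw1, hw2⟩ := hlift (pullback.fst (X ⊗ X).hom t ≫ q.left) (pullback.snd (X ⊗ X).hom t)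
      (by rw [Category.assoc, Over.w q, pullback.condition])
    obtain ⟨r, hr⟩ := Spec.map_surjective (eW.inv ≫ w)
    suffices r ≫ n = h from ⟨r.hom c, congrArg (fun m => m.hom c) this⟩
    apply Spec.map_injective
    rw [Spec.map_comp, hn, hr]
    simp only [Category.assoc, Iso.hom_inv_id_assoc]
    refine hx₀ ?_ ?_
    · simp only [Category.assoc, hw1, hq, f]
      rw [ActBC.pullback_map_left_fst_assoc, ← Category.assoc e₁.hom, IsPullback.isoPullback_hom_fst,
        Over.comp_left, Over.comp_left]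
    · simp only [Category.assoc, hw2, f]
      rw [← Spec.map_comp, hg, Spec.map_comp, show ((Over.pullback t).map (lift a.act (snd G X))).left ≫
        pullback.snd (X ⊗ X).hom t = pullback.snd (G ⊗ X).hom t from Over.w ((Over.pullback t).map _)]
      exact IsPullback.isoPullback_hom_snd _
  have hsurj : Function.Surjective n.hom := by
    rw [← RingHom.range_eq_top, eq_top_iff, ← htop, Subring.closure_le]
    rintro _ (⟨c, rfl⟩ | ⟨c, rfl⟩)
    · refine hf (fst X X) ρ ?_ hgρ c
      rw [lift_fst]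
      exact hv1
    · refine hf (snd X X) (gc A M) ?_ rfl c
      rw [lift_snd, lift_snd]
      rfl
  haveI : IsClosedImmersion (Spec.map n) := IsClosedImmersion.spec_of_surjective n hsurj
  have : f = e₁.inv ≫ Spec.map n ≫ eW.inv := by simp [hn]
  rw [show ((Over.pullback t).map (lift a.act (snd G X))).left = e₁.inv ≫ Spec.map n ≫ eW.inv from this]
  infer_instance

/-- The graph of a free action of a group of multiplicative type on an affine scheme is a closed immersion, and
so are the orbit maps. -/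
theorem isClosedImmersion_graph
    (hG : TwC.Locally S TwC.Topology.fpqc (fun S' f => ∃ (M : Type) (_ : AddCommGroup M),
      Nonempty (Grp.mk (Red.bc f G) ≅ Grp.mk (Red.DS S' M))))
    [IsAffineHom X.hom] (a : AlgGrp.Action G X)
    (hfree : ∀ (Y : Over S) (g : Y ⟶ G) (x : Y ⟶ X), lift g x ≫ a.act = x → g = 1) :
    IsClosedImmersion (lift a.act (snd G X)).left ∧
      ∀ σ : 𝟙_ (Over S) ⟶ X, IsClosedImmersion (a.orbitMap σ).left := by
  haveI : IsAffineHom G.hom := isAffineHom_of_isMultTypeLoc hG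
  haveI := FpqcDesc.isClosedImmersion_descends.{u}
  have hgraph : IsClosedImmersion (lift a.act (snd G X)).left := by
    obtain ⟨S', c, hc, -, hqc, hloc⟩ := hG
    haveI := hc
    refine descend_over @IsClosedImmersion (lift a.act (snd G X)) c hqc fun s' => ?_
    obtain ⟨U, hU, M, _, ⟨e⟩⟩ := hloc s'
    obtain ⟨σ⟩ := exists_split (U.ι ≫ c) M e
    exact ⟨U, hU, fun R q => isClosedImmersion_graph_chart (σ.comp q rfl) a hfree⟩
  refine ⟨hgraph, fun o => ?_⟩
  haveI := hgraph
  let i : G ⟶ G ⊗ X := lift (𝟙 G) (toUnit G ≫ o)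
  have hi : IsClosedImmersion i.left := by
    haveI : IsClosedImmersion (i.left ≫ (fst G X).left) := by
      rw [← Over.comp_left, lift_fst]
      exact inferInstanceAs (IsClosedImmersion (𝟙 G.left))
    haveI : IsSeparated (fst G X).left := inferInstanceAs (IsSeparated (pullback.fst G.hom X.hom))
    exact IsClosedImmersion.of_comp i.left (fst G X).left
  haveI := hi
  let j : X ⟶ X ⊗ X := lift (𝟙 X) (toUnit X ≫ o)
  have hj : a.orbitMap o ≫ j = i ≫ lift a.act (snd G X) := by
    apply CartesianMonoidalCategory.hom_ext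
    · simp [j, i, AlgGrp.Action.orbitMap]
    · simp [j, i]
  haveI : IsClosedImmersion ((a.orbitMap o).left ≫ j.left) := by
    rw [← Over.comp_left, hj, Over.comp_left]
    infer_instance
  haveI : IsSeparated j.left := by
    haveI : IsSeparated (j.left ≫ (fst X X).left) := by
      rw [← Over.comp_left, lift_fst]
      exact inferInstanceAs (IsSeparated (𝟙 X.left))
    exact IsSeparated.of_comp j.left (fst X X).left
  exact IsClosedImmersion.of_comp (a.orbitMap o).left j.left

end Groth.Agent.FreeAct
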